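/-
Groups of type JR (`C(t) = ⟨t⟩ × L₂(q)`, abelian Sylow `2`-subgroups): the local data.
-/
import Cfsg.Agent.GW.B4
import Cfsg.Agent.Dih.BSW2

set_option autoImplicit false

namespace CA.Wal

open Subgroup Cfsg CA.FG CA.GW CA.GW.BA CA.Chr

universe u

variable {G : Type u} [Group G]

/-- the four-group `V = ⟨t, u⟩`, `C(V) = V × R⟨w⟩`, `W = V × R`, `σ` of order `3` -/
structure VD (r : ℕ) (t u w σ : G) (R : Subgroup G) : Prop where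
  four : Four t u
  iw : IsInv w
  wt : w ∈ 𝒞[t]
  wu : w ∈ 𝒞[u]
  cyc : IsCyclic R
  card : Nat.card R = r
  Rt : R ≤ 𝒞[t]
  Ru : R ≤ 𝒞[u]
  wR : ∀ x ∈ R, w * x * w⁻¹ = x⁻¹
  wW : w ∉ R ⊔ V4 t u
  cV : ∀ x ∈ 𝒞[t] ⊓ 𝒞[u], x ∈ R ⊔ V4 t u ∨ x * w ∈ R ⊔ V4 t u
  s3 : σ ^ 3 = 1
  st : σ * t * σ⁻¹ = u
  su : σ * u * σ⁻¹ = t * u
  sw : σ * w = w * σ
  sR : σ ∈ 𝒩(R)
  cR : ∀ x ∈ R, x ≠ 1 → 𝒞[t] ⊓ 𝒞[x] = R ⊔ V4 t u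
  ti : ∀ g ∈ 𝒞[t], ∀ x ∈ R, x ≠ 1 → g * x * g⁻¹ ∈ R → g ∈ 𝒞[u]

/-- the torus `T` of odd order `n` of `C(t)`, inverted by `v` -/
structure TD (n : ℕ) (t v : G) (T : Subgroup G) : Prop where
  four : Four t v
  cyc : IsCyclic T
  card : Nat.card T = n
  le : T ≤ 𝒞[t]
  inv : ∀ x ∈ T, v * x * v⁻¹ = x⁻¹
  cT : ∀ x ∈ T, x ≠ 1 → 𝒞[t] ⊓ 𝒞[x] = T ⊔ zpowers t
  ti : ∀ g ∈ 𝒞[t], ∀ x ∈ T, x ≠ 1 → g * x * g⁻¹ ∈ T → g ∈ T ⊔ zpowers t ∨ g * v ∈ T ⊔ zpowers t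
  cj : ∀ x ∈ 𝒞[t], orderOf x ∣ n → ∃ g ∈ 𝒞[t], g * x * g⁻¹ ∈ T

/-- a Sylow `p`-subgroup `Q` of `C(t)` -/
structure QD (p q : ℕ) (t : G) (Q : Subgroup G) : Prop where
  le : Q ≤ 𝒞[t]
  card : Nat.card Q = q
  ex : ∀ x ∈ Q, x ^ p = 1
  cQ : ∀ x ∈ Q, x ≠ 1 → 𝒞[t] ⊓ 𝒞[x] = Q ⊔ zpowers t
  ti : ∀ g ∈ 𝒞[t], ∀ x ∈ Q, x ≠ 1 → g * x * g⁻¹ ∈ Q → g ∈ 𝒩(Q)
  cN : Nat.card (𝒞[t] ⊓ 𝒩(Q) : Subgroup G) = q * (q - 1)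
  cj : ∀ x ∈ 𝒞[t], x ^ p = 1 → ∃ g ∈ 𝒞[t], g * x * g⁻¹ ∈ Q

/-- `q = p ^ f = 4 r + ε`, `q + ε = 2 n` -/
structure JR (G : Type u) [Group G] (p q r n : ℕ) (ε : ℤ) : Prop where
  pp : p.Prime
  qp : ∃ f, q = p ^ f
  he : ε = 1 ∨ ε = -1
  hr : (q : ℤ) = 4 * r + ε
  hn : (q : ℤ) + ε = 2 * n
  ro : Odd r
  q5 : 5 ≤ q
  ab : ∀ Q : Subgroup G, IsPGrp 2 Q → Q ≤ 𝒞(Q)
  sq : ∀ x : G, x ^ 4 = 1 → x * x = 1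
  ex : ∃ t : G, IsInv t
  one : ∀ a b : G, IsInv a → IsInv b → ∃ g, g * a * g⁻¹ = b
  card : ∀ t : G, IsInv t → Nat.card 𝒞[t] = 8 * r * n * q
  sgn : ∀ t : G, IsInv t → ∃ L : Subgroup G, L ≤ 𝒞[t] ∧ L.relIndex 𝒞[t] = 2 ∧ t ∉ L
  cjI : ∀ t a b : G, Four t a → Four t b → ∃ g ∈ 𝒞[t], g * a * g⁻¹ = b ∨ g * a * g⁻¹ = t * b
  typ : ∀ t x : G, IsInv t → x ∈ 𝒞[t] → Odd (orderOf x) → orderOf x ∣ r ∨ orderOf x ∣ n ∨ orderOf x = p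
  vd : ∀ t u : G, Four t u → ∃ w σ R, VD r t u w σ R
  tR : ∀ t x : G, IsInv t → x ∈ 𝒞[t] → orderOf x ∣ r → ∃ u, Four t u ∧ x ∈ 𝒞[u]
  td : ∀ t : G, IsInv t → ∃ v T, TD n t v T
  qd : ∀ t : G, IsInv t → ∃ Q, QD p q t Q ∧
    (ε = 1 → ∃ u w σ R, VD r t u w σ R ∧ R ≤ 𝒩(Q) ∧ ∀ x ∈ Q, u * x * u⁻¹ = x⁻¹) ∧
    (ε = -1 → ∃ v T, TD n t v T ∧ T ≤ 𝒩(Q))

/-- (ii) the centralizer of a non-trivial element of `R` is `W` -/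
def CRP (G : Type u) [Group G] (r : ℕ) : Prop :=
  ∀ (t u w σ : G) (R : Subgroup G), VD r t u w σ R → ∀ x ∈ R, x ≠ 1 → 𝒞[x] = R ⊔ V4 t u

/-- (i) the centralizer of a non-trivial element of `T` is `T × ⟨t⟩` -/
def CTP (G : Type u) [Group G] (n : ℕ) : Prop :=
  ∀ (t v : G) (T : Subgroup G), TD n t v T → ∀ x ∈ T, x ≠ 1 → 𝒞[x] = T ⊔ zpowers t

/-- the local structure of `J₁`: `N(3) = N(5) = D₆ × D₁₀` -/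
structure J1D (a b t v : G) : Prop where
  four : Four t v
  a3 : orderOf a = 3
  b5 : orderOf b = 5
  ab : a * b = b * a
  ta : t * a = a * t
  tb : t * b * t⁻¹ = b⁻¹
  va : v * a * v⁻¹ = a⁻¹
  vb : v * b = b * v
  nA : 𝒩(zpowers a) = zpowers a ⊔ zpowers b ⊔ V4 t v
  nB : 𝒩(zpowers b) = zpowers a ⊔ zpowers b ⊔ V4 t v

theorem realizeEqns_Wal_JDefs : True := by
  have := @CA.Wal.CTP.eq_1.{0}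
  have := @CA.Wal.CTP.eq_def.{0}
  have := @CA.Wal.CTP.congr_simp.{0}
  have := @CA.Wal.CRP.eq_1.{0}
  have := @CA.Wal.CRP.eq_def.{0}
  have := @CA.Wal.CRP.congr_simp.{0}
  trivial

end CA.Wal
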